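import Mathlib
import Groth.Prelude.Def_WeilRes
import Groth.Prelude.Def_Flatn

/-!
# The Weil restriction functor as an equalizer of `Mor_S` functors (helper19, for S17692)

For `f : S' ⟶ S` and `X'` over `S'`, the Weil restriction functor `T ↦ Hom_{S'}(T ×_S S', X')` is the
equalizer of `Mor_S(S', X') ⇉ Mor_S(S', S')` (post-composition with `X' ⟶ S'`, and the constant map
to the canonical section).  Hence it is representable as soon as both `Mor_S` functors are.
-/

set_option autoImplicit false
set_option linter.style.haveILetI false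
set_option linter.unusedSectionVars false
set_option linter.unusedVariables false

universe u
open CategoryTheory CategoryTheory.Limits AlgebraicGeometry Opposite

namespace Groth.Agent.Helper19.WRUH

variable {S S' : Scheme.{u}} (f : S' ⟶ S) (X' : Over S')

/-- the canonical section of `Mor_S(S', S')`. -/
noncomputable def cT (T : Over S) : (Flatn.morS f f).obj (op T) :=
  (Over.homMk (pullback.snd T.hom f) rfl : (Over.map f).obj ((Over.pullback f).obj T) ⟶ Over.mk f)

/-- post-composition with `X' ⟶ S'`. -/
noncomputable def post (T : Over S) (x : (Flatn.morS f (X'.hom ≫ f)).obj (op T)) :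
    (Flatn.morS f f).obj (op T) :=
  (show (Over.map f).obj ((Over.pullback f).obj T) ⟶ Over.mk (X'.hom ≫ f) from x) ≫
    (Over.homMk X'.hom rfl : Over.mk (X'.hom ≫ f) ⟶ Over.mk f)

noncomputable def toWR (T : Over S) (x : (Flatn.morS f (X'.hom ≫ f)).obj (op T))
    (hx : post f X' T x = cT f T) : (Over.pullback f).obj T ⟶ X' :=
  Over.homMk (show (Over.map f).obj ((Over.pullback f).obj T) ⟶ Over.mk (X'.hom ≫ f) from x).left (by
    have := congrArg (fun m => CommaMorphism.left m) hx
    exact this)

noncomputable def ofWR (T : Over S) (a' : (Over.pullback f).obj T ⟶ X') :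
    (Flatn.morS f (X'.hom ≫ f)).obj (op T) :=
  (Over.homMk a'.left (by
    have := Over.w a'
    change a'.left ≫ X'.hom ≫ f = pullback.snd T.hom f ≫ f
    rw [← Category.assoc, this]; rfl) :
    (Over.map f).obj ((Over.pullback f).obj T) ⟶ Over.mk (X'.hom ≫ f))

theorem post_ofWR (T : Over S) (a' : (Over.pullback f).obj T ⟶ X') :
    post f X' T (ofWR f X' T a') = cT f T := by
  apply Over.OverMorphism.ext
  exact Over.w a'

theorem toWR_ofWR (T : Over S) (a' : (Over.pullback f).obj T ⟶ X') :
    toWR f X' T (ofWR f X' T a') (post_ofWR f X' T a') = a' := by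
  apply Over.OverMorphism.ext
  rfl

theorem ofWR_toWR (T : Over S) (x : (Flatn.morS f (X'.hom ≫ f)).obj (op T))
    (hx : post f X' T x = cT f T) : ofWR f X' T (toWR f X' T x hx) = x := by
  apply Over.OverMorphism.ext
  rfl

theorem post_map {T T' : Over S} (φ : T' ⟶ T) (x : (Flatn.morS f (X'.hom ≫ f)).obj (op T)) :
    post f X' T' ((Flatn.morS f (X'.hom ≫ f)).map φ.op x) =
      (Flatn.morS f f).map φ.op (post f X' T x) := by
  change ((Over.map f).map ((Over.pullback f).map φ) ≫ _) ≫ _ =
    (Over.map f).map ((Over.pullback f).map φ) ≫ (_ ≫ _)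
  rw [Category.assoc]

theorem cT_map {T T' : Over S} (φ : T' ⟶ T) :
    (Flatn.morS f f).map φ.op (cT f T) = cT f T' := by
  apply Over.OverMorphism.ext
  exact Over.w ((Over.pullback f).map φ)

theorem toWR_map {T T' : Over S} (φ : T' ⟶ T) (x : (Flatn.morS f (X'.hom ≫ f)).obj (op T))
    (hx : post f X' T x = cT f T)
    (hx' : post f X' T' ((Flatn.morS f (X'.hom ≫ f)).map φ.op x) = cT f T') :
    toWR f X' T' ((Flatn.morS f (X'.hom ≫ f)).map φ.op x) hx' =
      (Over.pullback f).map φ ≫ toWR f X' T x hx := by
  apply Over.OverMorphism.ext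
  rfl

section Rep

variable {f X'} {W V : Over S} (RM : (Flatn.morS f (X'.hom ≫ f)).RepresentableBy W)
  (RN : (Flatn.morS f f).RepresentableBy V)

/-- the morphism induced by post-composition -/
noncomputable def aMor : W ⟶ V := RN.homEquiv.symm (post f X' W (RM.homEquiv (𝟙 W)))

/-- the morphism induced by the canonical section -/
noncomputable def bMor (W : Over S) : W ⟶ V := RN.homEquiv.symm (cT f W)

theorem homEquiv_aMor {T : Over S} (u : T ⟶ W) :
    RN.homEquiv (u ≫ aMor RM RN) = post f X' T (RM.homEquiv u) := by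
  rw [RN.homEquiv_comp, aMor, Equiv.apply_symm_apply, ← post_map]
  congr 1
  have := RM.homEquiv_comp u (𝟙 W)
  rw [Category.comp_id] at this
  exact this.symm

theorem homEquiv_bMor {T : Over S} (u : T ⟶ W) :
    RN.homEquiv (u ≫ bMor RN W) = cT f T := by
  rw [RN.homEquiv_comp, bMor, Equiv.apply_symm_apply, cT_map]

theorem comp_eq_iff {T : Over S} (u : T ⟶ W) :
    u ≫ aMor RM RN = u ≫ bMor RN W ↔ post f X' T (RM.homEquiv u) = cT f T := by
  rw [← homEquiv_aMor RM RN u, ← homEquiv_bMor RN u]
  exact RN.homEquiv.injective.eq_iff.symm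

/-- the equalizer represents the Weil restriction functor. -/
noncomputable def wrRep :
    (WeilRes.functor f X').RepresentableBy
      (equalizer (aMor RM RN) (bMor RN W)) where
  homEquiv {T} :=
    { toFun := fun u => toWR f X' T (RM.homEquiv (u ≫ equalizer.ι _ _))
        ((comp_eq_iff RM RN _).mp (by rw [Category.assoc, Category.assoc, equalizer.condition]))
      invFun := fun a' => equalizer.lift (RM.homEquiv.symm (ofWR f X' T a'))
        ((comp_eq_iff RM RN _).mpr (by rw [Equiv.apply_symm_apply]; exact post_ofWR f X' T a'))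
      left_inv := by
        intro u
        apply equalizer.hom_ext
        rw [equalizer.lift_ι]
        apply RM.homEquiv.injective
        rw [Equiv.apply_symm_apply, ofWR_toWR]
      right_inv := by
        intro a'
        have h1 : RM.homEquiv (equalizer.lift (RM.homEquiv.symm (ofWR f X' T a'))
            ((comp_eq_iff RM RN _).mpr
              (by rw [Equiv.apply_symm_apply]; exact post_ofWR f X' T a')) ≫
            equalizer.ι (aMor RM RN) (bMor RN W)) = ofWR f X' T a' := by
          rw [equalizer.lift_ι, Equiv.apply_symm_apply]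
        apply Over.OverMorphism.ext
        have h2 := congrArg (fun m => CommaMorphism.left
          (show (Over.map f).obj ((Over.pullback f).obj T) ⟶ Over.mk (X'.hom ≫ f) from m)) h1
        exact h2 }
  homEquiv_comp {T T'} φ u := by
    apply Over.OverMorphism.ext
    have h1 : RM.homEquiv ((φ ≫ u) ≫ equalizer.ι (aMor RM RN) (bMor RN W)) =
        (Flatn.morS f (X'.hom ≫ f)).map φ.op (RM.homEquiv (u ≫ equalizer.ι _ _)) := by
      rw [Category.assoc, RM.homEquiv_comp]
    have h2 := congrArg (fun m => CommaMorphism.left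
      (show (Over.map f).obj ((Over.pullback f).obj T) ⟶ Over.mk (X'.hom ≫ f) from m)) h1
    exact h2

theorem exists_isWeilRes {W V : Over S}
    (RM : (Flatn.morS f (X'.hom ≫ f)).RepresentableBy W)
    (RN : (Flatn.morS f f).RepresentableBy V) :
    ∃ (R : Over S) (q : Red.bc f R ⟶ X'), WeilRes.IsWeilRes f X' R q :=
  ⟨_, _, WeilRes.IsWeilRes.of_representableBy (wrRep RM RN)⟩

end Rep

end Groth.Agent.Helper19.WRUH
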