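import Mathlib
import Groth.Agent.Lib.Helper19.LRB.General

/-!
# `Mor_S(Z, X)` is representable for `Z/S` finite locally free and universally injective, for every
`X/S` (helper19, for S17692)
-/

set_option autoImplicit false
set_option linter.style.haveILetI false
set_option linter.unusedSectionVars false
set_option linter.unusedVariables false

universe u
open CategoryTheory CategoryTheory.Limits AlgebraicGeometry Opposite

namespace Groth.Agent.Helper19.WRUH

open Groth.Agent.Helper1.MorSheaf Groth.Agent.Helper14.MorGlue Groth.Agent.Helper19.LRB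

variable {Z X S : Scheme.{u}} (g : Z ⟶ S) (f : X ⟶ S)

theorem fam_coverHyp_of_inj [IsFinite g]
    (hinj : ∀ (T : Scheme.{u}) (t : T ⟶ S), Function.Injective (pullback.fst t g)) :
    CoverHyp (fam g f) := by
  intro T t b p
  have key : ∃ U : X.Opens, IsAffineOpen U ∧
      ∀ z : ↥(pullback t g), (pullback.fst t g) z = p →
        (sec g f (T := Over.mk t) b) z ∈ U := by
    by_cases hne : ∃ z, (pullback.fst t g) z = p
    · obtain ⟨z0, hz0⟩ := hne
      obtain ⟨U, hU, hxU, -⟩ := AlgebraicGeometry.exists_isAffineOpen_mem_and_subset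
        (X := X) (x := (sec g f (T := Over.mk t) b) z0) (U := ⊤) trivial
      refine ⟨U, hU, ?_⟩
      intro z hz
      have : z = z0 := hinj T t (hz.trans hz0.symm)
      rw [this]
      exact hxU
    · refine ⟨⊥, isAffineOpen_bot X, ?_⟩
      intro z hz
      exact absurd ⟨z, hz⟩ hne
  obtain ⟨U, hU, hxU⟩ := key
  refine ⟨⟨U, hU⟩, locus g f (T := Over.mk t) b U, ?_, ?_⟩
  · rw [mem_locus]
    intro z hz
    exact hxU z hz
  · refine (map_mem_landsIn_iff g f
      (Over.homMk (locus g f (T := Over.mk t) b U).ι rfl :
        Over.mk ((locus g f (T := Over.mk t) b U).ι ≫ t) ⟶ Over.mk t) b U).mpr ?_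
    change Set.range (locus g f (T := Over.mk t) b U).ι.base ⊆ _
    rw [Scheme.Opens.range_ι]

theorem isRepresentable_of_isAffine_of_inj [IsAffine S] (hg : Mor2.IsFinLocFree g)
    (hinj : ∀ (T : Scheme.{u}) (t : T ⟶ S), Function.Injective (pullback.fst t g)) :
    (Flatn.morS g f).IsRepresentable := by
  haveI : IsFinite g := hg.1
  exact isRepresentable' (fam g f) (fam_isRepresentable g f hg) (tot_morS_isSheaf g f)
    (fam_openHyp g f) (fam_coverHyp_of_inj g f hinj)

theorem inj_of_universallyInjective [UniversallyInjective g] (T : Scheme.{u}) (t : T ⟶ S) :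
    Function.Injective (pullback.fst t g) := by
  haveI : UniversallyInjective (pullback.fst t g) :=
    MorphismProperty.pullback_fst (P := @UniversallyInjective) t g inferInstance
  exact (pullback.fst t g).injective

/-- `Mor_S(Z, X)` is representable for `Z/S` finite locally free and universally injective. -/
theorem isRepresentable_morS_of_inj (hg : Mor2.IsFinLocFree g) [UniversallyInjective g] :
    (Flatn.morS g f).IsRepresentable := by
  have hchart : ∀ V : S.affineOpens, Nonempty (Chart (F := Flatn.morS g f) V.1) := by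
    intro V
    haveI : IsAffine V.1.toScheme := V.2
    haveI : UniversallyInjective (pullback.fst V.1.ι g) :=
      MorphismProperty.pullback_fst (P := @UniversallyInjective) V.1.ι g inferInstance
    obtain ⟨W', ⟨R'⟩⟩ := (isRepresentable_of_isAffine_of_inj (pullback.fst V.1.ι g)
      (pullback.fst V.1.ι f) (finLocFree_baseChange g hg V.1.ι)
      (inj_of_universallyInjective _)).has_representation
    obtain ⟨R⟩ := Groth.Agent.Helper19.MorSRestrict.morS_restrict_representableBy' g f V.1.ι W' ⟨R'⟩
    exact ⟨Chart.ofRepresentableBy R⟩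
  obtain ⟨W, ⟨R⟩⟩ := exists_representableBy
    (Groth.Agent.Helper1.MorSheafW.isZarSheafW_morS g f) (fun V : S.affineOpens => V.1)
    (fun s => by
      obtain ⟨V, hV, hs, -⟩ := AlgebraicGeometry.exists_isAffineOpen_mem_and_subset
        (X := S) (x := s) (U := ⊤) trivial
      exact ⟨⟨V, hV⟩, hs⟩)
    (fun V => (hchart V).some)
  exact ⟨W, ⟨R⟩⟩

end Groth.Agent.Helper19.WRUH
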